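import Groth.Agent.KS92.Unique
import Mathlib.LinearAlgebra.Dimension.Constructions

/-!
# Existence of decompositions into indecomposable objects
-/

set_option autoImplicit false

universe w v u

open CategoryTheory CategoryTheory.Limits

namespace Groth.Agent.KS92

variable {C : Type u} [Category.{v} C] [Preadditive C] [HasFiniteCoproducts C] [HasBinaryBiproducts C]
variable (k : Type w) [Field k] [Linear k C]

/-- Endomorphisms of a retract form a subspace. -/
theorem finite_of_retract {A X : C} (i : A ⟶ X) (r : X ⟶ A) (h : i ≫ r = 𝟙 A) [Module.Finite k (X ⟶ X)] :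
    Module.Finite k (A ⟶ A) := by
  refine Module.Finite.of_injective ((Linear.leftComp k X r).comp (Linear.rightComp k A i)) fun f g hfg => ?_
  have := congrArg (fun z => i ≫ z ≫ r) hfg
  simpa [reassoc_of% h, h] using this

variable [IsIdempotentComplete C]

/-- The summands of a finite sum inherit local endomorphism rings. -/
theorem local_of_decomp {F : C} [Module.Finite k (F ⟶ F)] {n : ℕ} {Fs : Fin n → C}
    (hF : ∀ i, Indec (Fs i)) (φ : F ≅ ∐ Fs) (i : Fin n) (a : End (Fs i)) : IsUnit a ∨ IsUnit (1 - a) := by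
  haveI := finite_of_retract k (Sigma.ι Fs i ≫ φ.inv) (φ.hom ≫ proj Fs i) (by simp)
  exact isUnit_or_isUnit_one_sub k (hF i) a

/-- Sums of sums. -/
noncomputable def appendIso {a b : ℕ} (Fs : Fin a → C) (Gs : Fin b → C) :
    (∐ Fs) ⊞ (∐ Gs) ≅ ∐ Fin.addCases (motive := fun _ => C) Fs Gs where
  hom := biprod.desc
    (Sigma.desc fun i => eqToHom (Fin.addCases_left (motive := fun _ => C) (left := Fs) (right := Gs) i).symm ≫ Sigma.ι (Fin.addCases (motive := fun _ => C) Fs Gs) (Fin.castAdd b i))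
    (Sigma.desc fun i => eqToHom (Fin.addCases_right (motive := fun _ => C) (left := Fs) (right := Gs) i).symm ≫ Sigma.ι (Fin.addCases (motive := fun _ => C) Fs Gs) (Fin.natAdd a i))
  inv := Sigma.desc fun j => Fin.addCases
    (motive := fun j => Fin.addCases (motive := fun _ => C) Fs Gs j ⟶ (∐ Fs) ⊞ (∐ Gs))
    (fun i => eqToHom (Fin.addCases_left i) ≫ Sigma.ι Fs i ≫ biprod.inl)
    (fun i => eqToHom (Fin.addCases_right i) ≫ Sigma.ι Gs i ≫ biprod.inr) j
  hom_inv_id := by
    refine biprod.hom_ext' _ _ (Sigma.hom_ext _ _ fun i => ?_) (Sigma.hom_ext _ _ fun i => ?_) <;> simp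
  inv_hom_id := by
    refine Sigma.hom_ext _ _ fun j => ?_
    induction j using Fin.addCases with
    | left i => simp
    | right i => simp

/-- Existence of decompositions. -/
theorem exists_decomp (F : C) [Module.Finite k (F ⟶ F)] :
    ∃ (n : ℕ) (Fs : Fin n → C), (∀ i, Indec (Fs i)) ∧ Nonempty (F ≅ ∐ Fs) := by
  induction hd : Module.finrank k (F ⟶ F) using Nat.strong_induction_on generalizing F with
  | h d ih =>
    by_cases hz : IsZero F
    · refine ⟨0, Fin.elim0, fun i => i.elim0, ⟨hz.iso ?_⟩⟩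
      rw [IsZero.iff_id_eq_zero]
      exact Sigma.hom_ext _ _ fun i => i.elim0
    by_cases hi : Indec F
    · refine ⟨1, fun _ => F, fun _ => hi, ⟨⟨Sigma.ι (fun _ : Fin 1 => F) 0, Sigma.desc (fun _ => 𝟙 F),
        by simp, Sigma.hom_ext _ _ fun i => ?_⟩⟩⟩
      obtain rfl : i = 0 := Fin.fin_one_eq_zero i
      simp
    rw [Indec] at hi
    push Not at hi
    obtain ⟨A, B, ⟨φ⟩, hA, hB⟩ := hi hz
    haveI : Module.Finite k (A ⟶ A) := finite_of_retract k (biprod.inl ≫ φ.inv) (φ.hom ≫ biprod.fst) (by simp)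
    haveI : Module.Finite k (B ⟶ B) := finite_of_retract k (biprod.inr ≫ φ.inv) (φ.hom ≫ biprod.snd) (by simp)
    let L : ((A ⟶ A) × (B ⟶ B)) →ₗ[k] (F ⟶ F) :=
      { toFun := fun p => φ.hom ≫ biprod.map p.1 p.2 ≫ φ.inv
        map_add' := fun p q => by
          rw [← Preadditive.comp_add, ← Preadditive.add_comp]
          congr 2
          ext <;> simp
        map_smul' := fun c p => by
          rw [RingHom.id_apply, ← Linear.comp_smul, ← Linear.smul_comp]
          congr 2
          ext <;> simp }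
    have hL : Function.Injective L := fun p q h => by
      have h' : biprod.map p.1 p.2 = biprod.map q.1 q.2 := by simpa [L] using h
      exact Prod.ext (by simpa using congrArg (fun z => biprod.inl ≫ z ≫ biprod.fst) h')
        (by simpa using congrArg (fun z => biprod.inr ≫ z ≫ biprod.snd) h')
    have hle := LinearMap.finrank_le_finrank_of_injective hL
    rw [Module.finrank_prod, hd] at hle
    have hposA : 0 < Module.finrank k (A ⟶ A) := by
      haveI : Nontrivial (A ⟶ A) := ⟨⟨𝟙 A, 0, fun h => hA ((IsZero.iff_id_eq_zero _).2 h)⟩⟩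
      exact Module.finrank_pos
    have hposB : 0 < Module.finrank k (B ⟶ B) := by
      haveI : Nontrivial (B ⟶ B) := ⟨⟨𝟙 B, 0, fun h => hB ((IsZero.iff_id_eq_zero _).2 h)⟩⟩
      exact Module.finrank_pos
    obtain ⟨a, As, hAs, ⟨eA⟩⟩ := ih _ (by omega) A rfl
    obtain ⟨b, Bs, hBs, ⟨eB⟩⟩ := ih _ (by omega) B rfl
    refine ⟨a + b, Fin.addCases (motive := fun _ => C) As Bs, fun i => ?_,
      ⟨φ ≪≫ biprod.mapIso eA eB ≪≫ appendIso As Bs⟩⟩
    induction i using Fin.addCases with
    | left i => rw [Fin.addCases_left]; exact hAs i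
    | right i => rw [Fin.addCases_right]; exact hBs i

/-- Uniqueness of decompositions, for objects with finite dimensional endomorphisms. -/
theorem exists_equiv {F : C} [Module.Finite k (F ⟶ F)] {n m : ℕ} {Fs : Fin n → C} {Gs : Fin m → C}
    (hF : ∀ i, Indec (Fs i)) (hG : ∀ j, Indec (Gs j)) (φ : F ≅ ∐ Fs) (ψ : F ≅ ∐ Gs) :
    ∃ e : Fin n ≃ Fin m, ∀ i, Nonempty (Fs i ≅ Gs (e i)) :=
  exists_equiv_of_iso Fs Gs hF (local_of_decomp k hF φ) hG (φ.symm ≪≫ ψ)

/-- Sums of copies of a sum. -/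
noncomputable def powIso (d : ℕ) {n : ℕ} (Fs : Fin n → C) :
    (∐ fun _ : Fin d => ∐ Fs) ≅ ∐ fun p : Fin (d * n) => Fs (finProdFinEquiv.symm p).2 :=
  { hom := Sigma.desc fun i => Sigma.desc fun x => Sigma.ι (fun q : Fin d × Fin n => Fs q.2) (i, x)
    inv := Sigma.desc fun q => Sigma.ι Fs q.2 ≫ Sigma.ι (fun _ : Fin d => ∐ Fs) q.1
    hom_inv_id := Sigma.hom_ext _ _ fun i => Sigma.hom_ext _ _ fun x => by simp
    inv_hom_id := Sigma.hom_ext _ _ fun q => by simp } ≪≫
  Sigma.whiskerEquiv finProdFinEquiv (fun q => eqToIso (by simp))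

/-- Equal powers have isomorphic bases. -/
theorem nonempty_iso_of_pow {F G : C} {d : ℕ} (hd : 0 < d) [Module.Finite k (F ⟶ F)] [Module.Finite k (G ⟶ G)]
    [Module.Finite k ((∐ fun _ : Fin d => F) ⟶ (∐ fun _ : Fin d => F))]
    (φ : (∐ fun _ : Fin d => F) ≅ ∐ fun _ : Fin d => G) : Nonempty (F ≅ G) := by
  classical
  obtain ⟨n, Fs, hF, ⟨eF⟩⟩ := exists_decomp k F
  obtain ⟨m, Gs, hG, ⟨eG⟩⟩ := exists_decomp k G
  obtain ⟨e, he⟩ := exists_equiv k (F := ∐ fun _ : Fin d => F)
    (fun p : Fin (d * n) => hF (finProdFinEquiv.symm p).2) (fun p : Fin (d * m) => hG (finProdFinEquiv.symm p).2)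
    (Sigma.mapIso (fun _ => eF) ≪≫ powIso d Fs) (φ ≪≫ Sigma.mapIso (fun _ => eG) ≪≫ powIso d Gs)
  let Q := Quotient (isIsomorphicSetoid C)
  let f : Fin n → Q := fun i => Quotient.mk _ (Fs i)
  let g : Fin m → Q := fun j => Quotient.mk _ (Gs j)
  have key : ∀ q : Q, Fintype.card {i // f i = q} = Fintype.card {j // g j = q} := fun q => by
    let E : Fin d × Fin n ≃ Fin d × Fin m := finProdFinEquiv.trans (e.trans finProdFinEquiv.symm)
    have hE : ∀ p, g (E p).2 = f p.2 := fun p => by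
      refine Quotient.sound ?_
      obtain ⟨ι⟩ := he (finProdFinEquiv p)
      rw [Equiv.symm_apply_apply] at ι
      exact ⟨ι.symm⟩
    have hc : Fintype.card (Fin d × {i // f i = q}) = Fintype.card (Fin d × {j // g j = q}) :=
      Fintype.card_congr
        { toFun := fun p => ((E (p.1, p.2.1)).1, ⟨(E (p.1, p.2.1)).2, (hE _).trans p.2.2⟩)
          invFun := fun p => ((E.symm (p.1, p.2.1)).1, ⟨(E.symm (p.1, p.2.1)).2, by
            rw [← hE, Equiv.apply_symm_apply]; exact p.2.2⟩)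
          left_inv := fun p => by simp
          right_inv := fun p => by simp }
    simp only [Fintype.card_prod, Fintype.card_fin] at hc
    exact Nat.eq_of_mul_eq_mul_left hd hc
  let σ : Fin n ≃ Fin m := Equiv.ofFiberEquiv fun q => Fintype.equivOfCardEq (key q)
  have hσ : ∀ i, Nonempty (Gs (σ i) ≅ Fs i) := fun i =>
    Quotient.exact (Equiv.ofFiberEquiv_map (fun q => Fintype.equivOfCardEq (key q)) i)
  exact ⟨eF ≪≫ Sigma.whiskerEquiv σ (fun i => (hσ i).some) ≪≫ eG.symm⟩

end Groth.Agent.KS92
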