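import Groth.Agent.KS92.Exists

/-!
# Retracts of powers of indecomposable objects
-/

set_option autoImplicit false

universe w v u

open CategoryTheory CategoryTheory.Limits

namespace Groth.Agent.KS92

variable {C : Type u} [Category.{v} C] [Preadditive C] [HasFiniteCoproducts C] [HasBinaryBiproducts C]
  [IsIdempotentComplete C] (k : Type w) [Field k] [Linear k C]

/-- Every summand of a decomposition occurs in every other decomposition. -/
theorem exists_iso_of_iso {F : C} [Module.Finite k (F ⟶ F)] {n m : ℕ} {Fs : Fin n → C} {Gs : Fin m → C}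
    (hF : ∀ i, Indec (Fs i)) (hG : ∀ j, Indec (Gs j)) (φ : F ≅ ∐ Fs) (ψ : F ≅ ∐ Gs) (i : Fin n) :
    ∃ j, Nonempty (Fs i ≅ Gs j) :=
  let ⟨e, he⟩ := exists_equiv k hF hG φ ψ
  ⟨e i, he i⟩

/-- A retract of a power of an indecomposable object is a power of it. -/
theorem exists_iso_pow {F G W : C} [Module.Finite k (F ⟶ F)] (hW : Indec W) {r : ℕ}
    (φ : F ≅ ∐ fun _ : Fin r => W) (i : G ⟶ F) (s : F ⟶ G) (hs : i ≫ s = 𝟙 G) :
    ∃ t : ℕ, Nonempty (G ≅ ∐ fun _ : Fin t => W) := by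
  obtain ⟨H, i', s', hi, hs'⟩ := IsIdempotentComplete.idempotents_split F (𝟙 F - s ≫ i)
    (by simp [reassoc_of% hs])
  let ψ : F ≅ G ⊞ H := isoOfIdem i s i' s' hs hi (by rw [hs', add_sub_cancel])
  haveI := finite_of_retract k i s hs
  haveI := finite_of_retract k i' s' hi
  obtain ⟨a, As, hAs, ⟨eA⟩⟩ := exists_decomp k G
  obtain ⟨b, Bs, hBs, ⟨eB⟩⟩ := exists_decomp k H
  obtain ⟨eq, heq⟩ := exists_equiv k (Fs := Fin.addCases (motive := fun _ => C) As Bs) (fun j => by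
      induction j using Fin.addCases with
      | left j => rw [Fin.addCases_left]; exact hAs j
      | right j => rw [Fin.addCases_right]; exact hBs j)
    (fun _ : Fin r => hW) (ψ ≪≫ biprod.mapIso eA eB ≪≫ appendIso As Bs) φ
  refine ⟨a, ⟨eA ≪≫ Sigma.mapIso fun j => ?_⟩⟩
  have := heq (Fin.castAdd b j)
  rw [Fin.addCases_left] at this
  exact this.some

/-- Two splittings of the same idempotent are isomorphic. -/
def isoOfSplittings {D : Type*} [Category D] {A B X : D} {e : X ⟶ X} (i : A ⟶ X) (r : X ⟶ A) (i' : B ⟶ X)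
    (r' : X ⟶ B) (h : i ≫ r = 𝟙 A) (he : r ≫ i = e) (h' : i' ≫ r' = 𝟙 B) (he' : r' ≫ i' = e) : A ≅ B where
  hom := i ≫ r'
  inv := i' ≫ r
  hom_inv_id := by
    calc (i ≫ r') ≫ i' ≫ r = i ≫ (r' ≫ i') ≫ r := by simp
      _ = i ≫ (r ≫ i) ≫ r := by rw [he', he]
      _ = 𝟙 A := by simp [reassoc_of% h, h]
  inv_hom_id := by
    calc (i' ≫ r) ≫ i ≫ r' = i' ≫ (r ≫ i) ≫ r' := by simp
      _ = i' ≫ (r' ≫ i') ≫ r' := by rw [he', he]
      _ = 𝟙 B := by simp [reassoc_of% h', h']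

end Groth.Agent.KS92
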