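import Mathlib.RingTheory.Artinian.Module
import Mathlib.RingTheory.Adjoin.Basic
import Mathlib.CategoryTheory.Linear.Basic
import Mathlib.LinearAlgebra.FiniteDimensional.Basic
import Mathlib.CategoryTheory.Idempotents.Basic
import Mathlib.CategoryTheory.Preadditive.Biproducts
import Mathlib.CategoryTheory.Simple
import Mathlib.Tactic.LinearCombination
import Mathlib.RingTheory.Nilpotent.Basic

/-!
# Indecomposable objects with finite dimensional endomorphism algebras
-/

set_option autoImplicit false

universe w v u

open CategoryTheory CategoryTheory.Limits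

namespace Groth.Agent.KS92

/-- An element of a finite dimensional algebra without non-trivial idempotents is a unit or nilpotent. -/
theorem isUnit_or_isNilpotent {k : Type*} {R : Type*} [Field k] [Ring R] [Algebra k R] [Module.Finite k R]
    (h : ∀ e : R, e * e = e → e = 0 ∨ e = 1) (a : R) : IsUnit a ∨ IsNilpotent a := by
  let S : Subalgebra k R := Algebra.adjoin k {a}
  letI : CommRing S :=
    Algebra.adjoinCommRingOfComm k fun x hx y hy => by
      rw [Set.mem_singleton_iff] at hx hy; subst hx hy; rfl
  haveI : IsArtinianRing S := IsArtinianRing.of_finite k S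
  let s : S := ⟨a, Algebra.subset_adjoin rfl⟩
  obtain ⟨n, y, hy⟩ := IsArtinian.exists_pow_succ_smul_dvd s (1 : S)
  simp only [smul_eq_mul, mul_one] at hy
  have key : ∀ m : ℕ, s ^ n = s ^ (n + m) * y ^ m := by
    intro m
    induction m with
    | zero => simp
    | succ m ih => rw [ih]; rw [Nat.succ_eq_add_one] at hy; linear_combination (-(y ^ m) * s ^ m) * hy
  let e : S := s ^ n * y ^ n
  have he : e * e = e := by linear_combination (-(y ^ n)) * key n
  rcases h (e : R) (congrArg Subtype.val he) with h0 | h1
  · right
    refine ⟨n, ?_⟩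
    have : s ^ n = 0 := by
      have he0 : e = 0 := Subtype.ext h0
      linear_combination key n + s ^ n * he0
    exact congrArg Subtype.val this
  · have he1 : e = 1 := Subtype.ext h1
    rcases n.eq_zero_or_pos with hn | hn
    · subst hn
      simp only [zero_add, pow_zero, pow_one] at hy
      left
      exact IsUnit.map S.val (IsUnit.of_mul_eq_one (a := s) y hy)
    · left
      have hu : IsUnit s := by
        refine isUnit_of_dvd_one ⟨s ^ (n - 1) * y ^ n, ?_⟩
        rw [← mul_assoc, ← pow_succ', Nat.sub_add_cancel hn]
        exact he1.symm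
      exact hu.map S.val

variable {C : Type u} [Category.{v} C] [Preadditive C]

/-- An object is indecomposable. -/
def Indec [HasBinaryBiproducts C] (X : C) : Prop :=
  ¬ IsZero X ∧ ∀ A B : C, Nonempty (X ≅ A ⊞ B) → IsZero A ∨ IsZero B

/-- A complementary pair of retracts gives a decomposition. -/
noncomputable def isoOfIdem [HasBinaryBiproducts C] {X A B : C} (i : A ⟶ X) (r : X ⟶ A) (i' : B ⟶ X) (r' : X ⟶ B)
    (h : i ≫ r = 𝟙 A) (h' : i' ≫ r' = 𝟙 B) (ht : r ≫ i + r' ≫ i' = 𝟙 X) : X ≅ A ⊞ B where
  hom := biprod.lift r r'
  inv := biprod.desc i i'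
  hom_inv_id := by rw [biprod.lift_desc, ht]
  inv_hom_id := by
    have h1 : i ≫ r' = 0 := by
      have := congrArg (fun z => i ≫ z ≫ r') ht
      simpa [reassoc_of% h, h'] using this
    have h2 : i' ≫ r = 0 := by
      have := congrArg (fun z => i' ≫ z ≫ r) ht
      simpa [reassoc_of% h', h] using this
    ext <;> simp [h, h', h1, h2]

variable [HasBinaryBiproducts C] [IsIdempotentComplete C]

/-- Endomorphisms of indecomposable objects have no non-trivial idempotents. -/
theorem idem_trivial {X : C} (hX : Indec X) (e : End X) (he : e * e = e) : e = 0 ∨ e = 1 := by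
  obtain ⟨A, i, r, hir, hri⟩ := IsIdempotentComplete.idempotents_split X e he
  have he' : (1 - e) * (1 - e) = 1 - e := by rw [mul_sub, mul_one, sub_mul, one_mul, he, sub_self, sub_zero]
  obtain ⟨B, i', r', hir', hri'⟩ := IsIdempotentComplete.idempotents_split X (1 - e) he'
  have ht : r ≫ i + r' ≫ i' = 𝟙 X := by
    rw [hri, hri']
    exact add_sub_cancel e (1 : End X)
  rcases hX.2 A B ⟨isoOfIdem i r i' r' hir hir' ht⟩ with hA | hB
  · left
    rw [← hri, hA.eq_of_tgt r 0, zero_comp]
  · right
    have h0 : (1 : End X) - e = 0 := by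
      rw [← hri', hB.eq_of_tgt r' 0, zero_comp]
    exact (sub_eq_zero.1 h0).symm

/-- The endomorphism ring of an indecomposable object with finite dimensional endomorphisms is local. -/
theorem isUnit_or_isUnit_one_sub (k : Type w) [Field k] [Linear k C] {X : C} [Module.Finite k (X ⟶ X)]
    (hX : Indec X) (a : End X) : IsUnit a ∨ IsUnit (1 - a) := by
  haveI : Module.Finite k (End X) := ‹Module.Finite k (X ⟶ X)›
  exact (isUnit_or_isNilpotent (k := k) (idem_trivial hX) a).imp_right fun h => IsNilpotent.isUnit_one_sub h

end Groth.Agent.KS92
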