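import Groth.Agent.KS92.Local
import Mathlib.CategoryTheory.Limits.Shapes.Products
import Mathlib.Logic.Equiv.Fin.Basic

/-!
# Uniqueness of decompositions into indecomposable objects
-/

set_option autoImplicit false

universe w v u

open CategoryTheory CategoryTheory.Limits

namespace Groth.Agent.KS92

variable {C : Type u} [Category.{v} C] [Preadditive C] [HasFiniteCoproducts C] [HasBinaryBiproducts C]

section Proj

variable {ι : Type*} [Fintype ι] [DecidableEq ι] (F : ι → C) [HasCoproduct F]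

/-- The projection from a finite sum onto one of its summands. -/
noncomputable def proj (j : ι) : (∐ F) ⟶ F j :=
  Sigma.desc fun i => if h : i = j then eqToHom (congrArg F h) else 0

@[simp]
theorem ι_proj_self (j : ι) : Sigma.ι F j ≫ proj F j = 𝟙 _ := by simp [proj]

theorem ι_proj_ne {i j : ι} (h : i ≠ j) : Sigma.ι F i ≫ proj F j = 0 := by simp [proj, h]

theorem sum_proj_ι : ∑ j, proj F j ≫ Sigma.ι F j = 𝟙 (∐ F) := by
  refine Sigma.hom_ext _ _ fun i => ?_
  rw [Preadditive.comp_sum, Finset.sum_eq_single i]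
  · rw [← Category.assoc, ι_proj_self, Category.id_comp, Category.comp_id]
  · intro b _ hb
    rw [← Category.assoc, ι_proj_ne F (Ne.symm hb), zero_comp]
  · intro h; exact absurd (Finset.mem_univ i) h

end Proj

/-- Splitting off one summand. -/
noncomputable def splitIso {n : ℕ} (G : Fin (n + 1) → C) (j : Fin (n + 1)) :
    (∐ G) ≅ G j ⊞ (∐ fun i : Fin n => G (j.succAbove i)) where
  hom := Sigma.desc (Fin.succAboveCases j biprod.inl
    fun i => Sigma.ι (fun i : Fin n => G (j.succAbove i)) i ≫ biprod.inr)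
  inv := biprod.desc (Sigma.ι G j) (Sigma.desc fun i => Sigma.ι G (j.succAbove i))
  hom_inv_id := by
    refine Sigma.hom_ext _ _ fun i => ?_
    induction i using Fin.succAboveCases (i := j) with
    | x => simp
    | p i => simp
  inv_hom_id := by
    refine biprod.hom_ext' _ _ (by simp) (Sigma.hom_ext _ _ fun i => by simp)

theorem splitIso_hom_fst {n : ℕ} (G : Fin (n + 1) → C) (j : Fin (n + 1)) :
    (splitIso G j).hom ≫ biprod.fst = proj G j := by
  refine Sigma.hom_ext _ _ fun i => ?_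
  induction i using Fin.succAboveCases (i := j) with
  | x => simp [splitIso]
  | p i => simp [splitIso, ι_proj_ne G (Fin.succAbove_ne j i)]

theorem inl_splitIso_inv {n : ℕ} (G : Fin (n + 1) → C) (j : Fin (n + 1)) :
    biprod.inl ≫ (splitIso G j).inv = Sigma.ι G j := by simp [splitIso]

/-- A retract of a zero object is zero. -/
theorem isZero_of_retract {A Z : C} (hZ : IsZero Z) (i : A ⟶ Z) (r : Z ⟶ A) (h : i ≫ r = 𝟙 A) : IsZero A := by
  rw [IsZero.iff_id_eq_zero, ← h, hZ.eq_of_tgt i 0, zero_comp]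

/-- Local endomorphism rings: a sum can only be a unit if a summand is. -/
theorem exists_isUnit_of_sum {R : Type*} [Ring R] [Nontrivial R] (hR : ∀ a : R, IsUnit a ∨ IsUnit (1 - a))
    {ι : Type*} (s : Finset ι) (f : ι → R) (h : IsUnit (∑ i ∈ s, f i)) : ∃ i ∈ s, IsUnit (f i) := by
  classical
  induction s using Finset.induction_on with
  | empty => simp at h
  | insert a s ha ih =>
    rw [Finset.sum_insert ha] at h
    obtain ⟨u, hu⟩ := h
    rcases hR ((↑u⁻¹ : R) * f a) with h1 | h1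
    · exact ⟨a, Finset.mem_insert_self _ _, (Units.isUnit_units_mul u⁻¹ _).1 h1⟩
    · have h2 : IsUnit (∑ i ∈ s, f i) := by
        have : (1 : R) - (↑u⁻¹ : R) * f a = ↑u⁻¹ * ∑ i ∈ s, f i := by
          rw [← Units.inv_mul u, hu, mul_add, add_sub_cancel_left]
        rw [this] at h1
        exact (Units.isUnit_units_mul u⁻¹ _).1 h1
      obtain ⟨i, hi, hi'⟩ := ih h2
      exact ⟨i, Finset.mem_insert_of_mem hi, hi'⟩

variable [IsIdempotentComplete C]

/-- Uniqueness of decompositions. -/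
theorem exists_equiv_of_iso : ∀ {n m : ℕ} (Fs : Fin n → C) (Gs : Fin m → C), (∀ i, Indec (Fs i)) →
    (∀ i, ∀ a : End (Fs i), IsUnit a ∨ IsUnit (1 - a)) → (∀ j, Indec (Gs j)) →
    ((∐ Fs) ≅ ∐ Gs) → ∃ e : Fin n ≃ Fin m, ∀ i, Nonempty (Fs i ≅ Gs (e i)) := by
  intro n
  induction n with
  | zero =>
    intro m Fs Gs _ _ hG φ
    cases m with
    | zero => exact ⟨Equiv.refl _, fun i => i.elim0⟩
    | succ m =>
      refine absurd ?_ (hG 0).1
      refine isZero_of_retract ?_ (Sigma.ι Gs 0 ≫ φ.inv) (φ.hom ≫ proj Gs 0) (by simp)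
      rw [IsZero.iff_id_eq_zero]
      exact Sigma.hom_ext _ _ fun i => i.elim0
  | succ n ih =>
    intro m Fs Gs hF hloc hG φ
    haveI : Nontrivial (End (Fs 0)) := ⟨⟨1, 0, fun h => (hF 0).1 ((IsZero.iff_id_eq_zero _).2 h)⟩⟩
    let t : Fin m → End (Fs 0) := fun j =>
      (Sigma.ι Fs 0 ≫ φ.hom ≫ proj Gs j) ≫ (Sigma.ι Gs j ≫ φ.inv ≫ proj Fs 0)
    have hsum : IsUnit (∑ j, t j) := by
      have e : ∑ j, (Sigma.ι Fs 0 ≫ φ.hom ≫ proj Gs j) ≫ (Sigma.ι Gs j ≫ φ.inv ≫ proj Fs 0) = 𝟙 (Fs 0) := by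
        calc _ = (Sigma.ι Fs 0 ≫ φ.hom) ≫ (∑ j, proj Gs j ≫ Sigma.ι Gs j) ≫ φ.inv ≫ proj Fs 0 := by
              simp [Preadditive.comp_sum, Preadditive.sum_comp]
          _ = 𝟙 (Fs 0) := by simp [sum_proj_ι]
      exact (congrArg IsUnit (show ∑ j, t j = (1 : End (Fs 0)) from e)).mpr isUnit_one
    obtain ⟨j, -, hj⟩ := exists_isUnit_of_sum (hloc 0) _ t hsum
    cases m with
    | zero => exact j.elim0
    | succ m =>
      let a := Sigma.ι Fs 0 ≫ φ.hom ≫ proj Gs j
      let b := Sigma.ι Gs j ≫ φ.inv ≫ proj Fs 0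
      haveI : IsIso (a ≫ b) := (isUnit_iff_isIso _).1 hj
      let r := b ≫ inv (a ≫ b)
      have har : a ≫ r = 𝟙 _ := by simp [r, ← Category.assoc]
      haveI : IsIso a := by
        rcases idem_trivial (hG j) (r ≫ a : End (Gs j))
          (show (r ≫ a) ≫ r ≫ a = r ≫ a by simp [reassoc_of% har]) with h0 | h1
        · refine absurd ((IsZero.iff_id_eq_zero _).2 ?_) (hF 0).1
          calc 𝟙 (Fs 0) = a ≫ (r ≫ a) ≫ r := by simp [reassoc_of% har, har]
            _ = 0 := by rw [show r ≫ a = 0 from h0]; simp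
        · exact ⟨r, har, h1⟩
      let ψ := (splitIso Fs 0).symm ≪≫ φ ≪≫ splitIso Gs j
      haveI : IsIso (biprod.inl ≫ ψ.hom ≫ biprod.fst) := by
        rw [show biprod.inl ≫ ψ.hom ≫ biprod.fst = a by
          simp only [ψ, a, Iso.trans_hom, Iso.symm_hom, Category.assoc, splitIso_hom_fst]
          rw [reassoc_of% inl_splitIso_inv Fs 0]]
        infer_instance
      obtain ⟨e, he⟩ := ih (fun i => Fs ((0 : Fin (n + 1)).succAbove i)) (fun i => Gs (j.succAbove i))
        (fun i => hF _) (fun i => hloc _) (fun i => hG _) (Biprod.isoElim ψ)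
      refine ⟨(finSuccEquiv' 0).trans (e.optionCongr.trans (finSuccEquiv' j).symm), fun i => ?_⟩
      induction i using Fin.succAboveCases (i := (0 : Fin (n + 1))) with
      | x => simpa using ⟨asIso a⟩
      | p i =>
        have h : ((finSuccEquiv' 0).trans (e.optionCongr.trans (finSuccEquiv' j).symm))
            ((0 : Fin (n + 1)).succAbove i) = j.succAbove (e i) := by
          simp only [Equiv.trans_apply, finSuccEquiv'_succAbove]
          simp
        rw [h]
        exact he i

end Groth.Agent.KS92
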